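import Mathlib.Algebra.Polynomial.Laurent
import Mathlib.Algebra.MvPolynomial.Basic
import Mathlib.RingTheory.Ideal.Quotient.Operations
import Mathlib.RingTheory.Localization.Away.Basic
import Mathlib.RingTheory.TensorProduct.Basic
import Mathlib.Algebra.BigOperators.Fin
import Mathlib.Algebra.Category.Ring.Constructions
import Mathlib.AlgebraicGeometry.Pullbacks

/-!
# The hypersurface `x_0 ⋯ x_n = a` and the torus

`K` a commutative ring, `a : K`.
* `TK n = K[x_0, …, x_{n-1}][1/∏ x_i]` (the coordinate ring of `G_m^n`);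
* `hyperEquiv`: for `a` a unit, `K[x_0, …, x_n] / (∏ x_i - a) ≃ₐ[K] TK n`, `x_i ↦ x_i` for `i < n`,
  `x_n ↦ a / ∏ x_i`;
* `torusEquiv : TK (n + 1) ≃ₐ[K] TK n ⊗[K] K[T;T⁻¹]`, `∏ x_i ↦ T`, `x_i ↦ x_i` for `i < n`,
  `x_n ↦ T / ∏_{i<n} x_i`;
* scheme versions `hyperIso`, `isPullback_torus`.
-/

set_option autoImplicit false
universe u

open scoped TensorProduct LaurentPolynomial

noncomputable section

namespace Groth.Agent.Sga4h.H980.Fib

section Algebra

variable (K : Type u) [CommRing K]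

/-- The product of the variables. -/
abbrev pr (n : ℕ) : MvPolynomial (Fin n) K := ∏ i : Fin n, MvPolynomial.X i

/-- The coordinate ring of `G_m^n`. -/
abbrev TK (n : ℕ) : Type u := Localization.Away (pr K n)

/-- The coordinate ring of `x_0 ⋯ x_{n-1} = a`. -/
abbrev HK (n : ℕ) (a : K) : Type u :=
  MvPolynomial (Fin n) K ⧸ Ideal.span {(∏ i : Fin n, MvPolynomial.X i) - MvPolynomial.C a}

variable {K}

/-- The coordinate `x_i` of `G_m^n`. -/
def x {n : ℕ} (i : Fin n) : TK K n := algebraMap (MvPolynomial (Fin n) K) (TK K n) (MvPolynomial.X i)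

/-- The inverse of `∏ x_i`. -/
def inv (n : ℕ) : TK K n := IsLocalization.Away.invSelf (pr K n)

theorem prod_x (n : ℕ) : ∏ i : Fin n, (x i : TK K n) = algebraMap _ (TK K n) (pr K n) :=
  (map_prod _ _ _).symm

theorem prod_mul_inv (n : ℕ) : (∏ i : Fin n, (x i : TK K n)) * inv n = 1 := by
  rw [prod_x]
  exact IsLocalization.Away.mul_invSelf _

theorem isUnit_prod_x (n : ℕ) : IsUnit (∏ i : Fin n, (x i : TK K n)) :=
  IsUnit.of_mul_eq_one _ (prod_mul_inv n)

theorem isUnit_x {n : ℕ} (i : Fin n) : IsUnit (x i : TK K n) :=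
  isUnit_of_dvd_unit (Finset.dvd_prod_of_mem _ (Finset.mem_univ i)) (isUnit_prod_x n)

section Lift

variable {B : Type*} [CommRing B] [Algebra K B]

/-- A homomorphism out of the coordinate ring of `G_m^n`. -/
def liftT {n : ℕ} (c : Fin n → B) (hc : IsUnit (∏ i, c i)) : TK K n →ₐ[K] B :=
  IsLocalization.liftAlgHom (M := Submonoid.powers (pr K n)) (S := TK K n)
    (f := MvPolynomial.aeval c) (by
      rintro ⟨_, k, rfl⟩
      rw [map_pow, map_prod]
      simp only [MvPolynomial.aeval_X]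
      exact hc.pow k)

@[simp]
theorem liftT_x {n : ℕ} (c : Fin n → B) (hc : IsUnit (∏ i, c i)) (i : Fin n) :
    liftT (K := K) c hc (x i) = c i := by
  rw [liftT, x, IsLocalization.liftAlgHom_apply, IsLocalization.lift_eq]
  exact MvPolynomial.aeval_X c i

theorem hom_ext {n : ℕ} {f g : TK K n →ₐ[K] B} (h : ∀ i, f (x i) = g (x i)) : f = g := by
  refine IsLocalization.algHom_ext (Submonoid.powers (pr K n)) ?_
  refine MvPolynomial.algHom_ext fun i => ?_
  exact h i

theorem map_inv {n : ℕ} (f : TK K n →ₐ[K] B) : (∏ i : Fin n, f (x i)) * f (inv n) = 1 := by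
  rw [← map_prod, ← map_mul, prod_mul_inv, map_one]

/-- A homomorphism out of the coordinate ring of the hypersurface. -/
def liftH {n : ℕ} {a : K} (c : Fin n → B) (hc : ∏ i, c i = algebraMap K B a) : HK K n a →ₐ[K] B :=
  Ideal.Quotient.liftₐ _ (MvPolynomial.aeval c) (by
    intro f hf
    have : Ideal.span {(∏ i : Fin n, MvPolynomial.X i) - MvPolynomial.C a} ≤
        RingHom.ker (MvPolynomial.aeval c : MvPolynomial (Fin n) K →ₐ[K] B) := by
      rw [Ideal.span_singleton_le_iff_mem, RingHom.mem_ker, map_sub, map_prod, MvPolynomial.algHom_C]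
      simp only [MvPolynomial.aeval_X]
      rw [hc, sub_self]
    exact this hf)

/-- The coordinate `x_i` of the hypersurface. -/
def xH {n : ℕ} {a : K} (i : Fin n) : HK K n a := Ideal.Quotient.mk _ (MvPolynomial.X i)

@[simp]
theorem liftH_xH {n : ℕ} {a : K} (c : Fin n → B) (hc : ∏ i, c i = algebraMap K B a) (i : Fin n) :
    liftH c hc (xH i) = c i :=
  MvPolynomial.aeval_X c i

theorem homH_ext {n : ℕ} {a : K} {f g : HK K n a →ₐ[K] B} (h : ∀ i, f (xH i) = g (xH i)) : f = g :=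
  Ideal.Quotient.algHom_ext _ (MvPolynomial.algHom_ext fun i => h i)

end Lift

theorem prod_xH {n : ℕ} {a : K} : ∏ i : Fin n, (xH i : HK K n a) = algebraMap K _ a := by
  have h : (Ideal.Quotient.mk (Ideal.span {(∏ i : Fin n, MvPolynomial.X i) - MvPolynomial.C a}))
      ((∏ i : Fin n, MvPolynomial.X i) - MvPolynomial.C a) = 0 :=
    Ideal.Quotient.eq_zero_iff_mem.2 (Ideal.subset_span rfl)
  rw [map_sub, sub_eq_zero, map_prod] at h
  exact h

/-- `G_m^n → {∏_{i ≤ n} x_i = a}` on coordinate rings. -/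
def hyperHom {n : ℕ} {a : K} : HK K (n + 1) a →ₐ[K] TK K n :=
  liftH (Fin.snoc (α := fun _ => TK K n) (fun i => x i) (algebraMap K _ a * inv n)) (by
    rw [Fin.prod_univ_castSucc]
    simp only [Fin.snoc_castSucc, Fin.snoc_last]
    rw [mul_left_comm, prod_mul_inv, mul_one])

@[simp]
theorem hyperHom_castSucc {n : ℕ} {a : K} (i : Fin n) :
    hyperHom (xH i.castSucc : HK K (n + 1) a) = x i := by
  rw [hyperHom, liftH_xH, Fin.snoc_castSucc]

@[simp]
theorem hyperHom_last {n : ℕ} {a : K} :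
    hyperHom (xH (Fin.last n) : HK K (n + 1) a) = algebraMap K _ a * inv n := by
  rw [hyperHom, liftH_xH, Fin.snoc_last]

theorem isUnit_prod_xH {n : ℕ} {a : K} (ha : IsUnit a) :
    IsUnit (∏ i : Fin n, (xH i.castSucc : HK K (n + 1) a)) := by
  have h : (∏ i : Fin n, (xH i.castSucc : HK K (n + 1) a)) * xH (Fin.last n) = algebraMap K _ a := by
    rw [← Fin.prod_univ_castSucc, prod_xH]
  exact isUnit_of_mul_isUnit_left (h ▸ ha.map (algebraMap K _))

/-- The inverse map. -/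
def hyperInv {n : ℕ} {a : K} (ha : IsUnit a) : TK K n →ₐ[K] HK K (n + 1) a :=
  liftT (fun i => xH i.castSucc) (isUnit_prod_xH ha)

/-- The hypersurface `∏_{i ≤ n} x_i = a` is `G_m^n` if `a` is a unit. -/
def hyperEquiv {n : ℕ} {a : K} (ha : IsUnit a) : HK K (n + 1) a ≃ₐ[K] TK K n :=
  AlgEquiv.ofAlgHom hyperHom (hyperInv ha)
    (hom_ext fun i => by
      rw [AlgHom.comp_apply, hyperInv, liftT_x, hyperHom_castSucc]; rfl)
    (homH_ext fun i => by
      rw [AlgHom.comp_apply]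
      refine Fin.lastCases ?_ (fun i => ?_) i
      · rw [hyperHom_last, map_mul, AlgHom.commutes, AlgHom.id_apply]
        have h1 := map_inv (hyperInv ha : TK K n →ₐ[K] HK K (n + 1) a)
        simp only [hyperInv, liftT_x] at h1
        have h2 : (∏ i : Fin n, (xH i.castSucc : HK K (n + 1) a)) * xH (Fin.last n) =
            algebraMap K _ a := by
          rw [← Fin.prod_univ_castSucc, prod_xH]
        change algebraMap K _ a * liftT _ _ (inv n) = _
        rw [← h2, mul_right_comm, h1, one_mul]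
      · rw [hyperHom_castSucc, hyperInv, liftT_x]; rfl)

@[simp]
theorem hyperEquiv_castSucc {n : ℕ} {a : K} (ha : IsUnit a) (i : Fin n) :
    hyperEquiv ha (xH i.castSucc : HK K (n + 1) a) = x i := hyperHom_castSucc i

@[simp]
theorem hyperEquiv_last {n : ℕ} {a : K} (ha : IsUnit a) :
    hyperEquiv ha (xH (Fin.last n) : HK K (n + 1) a) = algebraMap K _ a * inv n := hyperHom_last

@[simp]
theorem hyperEquiv_symm_x {n : ℕ} {a : K} (ha : IsUnit a) (i : Fin n) :
    (hyperEquiv ha).symm (x i) = (xH i.castSucc : HK K (n + 1) a) := by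
  rw [AlgEquiv.symm_apply_eq, hyperEquiv_castSucc]

/-- The sum of the coordinates corresponds to `∑_{i<n} x_i + a / ∏_{i<n} x_i`. -/
theorem hyperEquiv_sum {n : ℕ} {a : K} (ha : IsUnit a) :
    hyperEquiv ha (Ideal.Quotient.mk _ (∑ i : Fin (n + 1), MvPolynomial.X i) : HK K (n + 1) a) =
      (∑ i : Fin n, x i) + algebraMap K _ a * inv n := by
  rw [map_sum, map_sum, Fin.sum_univ_castSucc]
  congr 1
  · exact Finset.sum_congr rfl fun i _ => hyperEquiv_castSucc ha i
  · exact hyperEquiv_last ha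

/-! ### `G_m^{n+1} = G_m^n × G_m` -/

section Laurent

variable {B : Type*} [CommRing B] [Algebra K B]

instance isScalarTower_laurent : IsScalarTower K (Polynomial K) K[T;T⁻¹] :=
  IsScalarTower.of_algebraMap_eq fun r => (Polynomial.toLaurent_C r).symm

/-- A homomorphism out of `K[T;T⁻¹]`. -/
def liftL (t : B) (ht : IsUnit t) : K[T;T⁻¹] →ₐ[K] B :=
  IsLocalization.liftAlgHom (M := Submonoid.powers (Polynomial.X : Polynomial K)) (S := K[T;T⁻¹])
    (f := Polynomial.aeval t) (by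
      rintro ⟨_, k, rfl⟩
      rw [map_pow, Polynomial.aeval_X]
      exact ht.pow k)

@[simp]
theorem liftL_T (t : B) (ht : IsUnit t) : liftL (K := K) t ht (LaurentPolynomial.T 1) = t := by
  rw [← Polynomial.toLaurent_X, liftL, IsLocalization.liftAlgHom_apply]
  change IsLocalization.lift _ (algebraMap (Polynomial K) K[T;T⁻¹] Polynomial.X) = t
  rw [IsLocalization.lift_eq]
  exact Polynomial.aeval_X t

theorem homL_ext {f g : K[T;T⁻¹] →ₐ[K] B}
    (h : f (LaurentPolynomial.T 1) = g (LaurentPolynomial.T 1)) : f = g := by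
  refine IsLocalization.algHom_ext (Submonoid.powers (Polynomial.X : Polynomial K)) ?_
  refine Polynomial.algHom_ext ?_
  have e : algebraMap (Polynomial K) K[T;T⁻¹] Polynomial.X = LaurentPolynomial.T 1 :=
    Polynomial.toLaurent_X
  change f (algebraMap (Polynomial K) K[T;T⁻¹] Polynomial.X) =
    g (algebraMap (Polynomial K) K[T;T⁻¹] Polynomial.X)
  rw [e, h]

end Laurent

theorem isUnit_T : IsUnit (LaurentPolynomial.T 1 : K[T;T⁻¹]) := LaurentPolynomial.isUnit_T 1

/-- `G_m^n × G_m → G_m^{n+1}` on coordinate rings. -/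
def torusHom {n : ℕ} : TK K (n + 1) →ₐ[K] TK K n ⊗[K] K[T;T⁻¹] :=
  liftT (Fin.snoc (α := fun _ => TK K n ⊗[K] K[T;T⁻¹]) (fun i => x i ⊗ₜ[K] 1)
    (inv n ⊗ₜ[K] LaurentPolynomial.T 1)) (by
    rw [Fin.prod_univ_castSucc]
    simp only [Fin.snoc_castSucc, Fin.snoc_last]
    have h : (∏ i : Fin n, (x i ⊗ₜ[K] 1 : TK K n ⊗[K] K[T;T⁻¹])) = (∏ i : Fin n, x i) ⊗ₜ[K] 1 :=
      (map_prod (Algebra.TensorProduct.includeLeft : TK K n →ₐ[K] TK K n ⊗[K] K[T;T⁻¹]) _ _).symm
    rw [h, Algebra.TensorProduct.tmul_mul_tmul, prod_mul_inv, one_mul]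
    exact isUnit_T.map (Algebra.TensorProduct.includeRight : K[T;T⁻¹] →ₐ[K] TK K n ⊗[K] K[T;T⁻¹]))

@[simp]
theorem torusHom_castSucc {n : ℕ} (i : Fin n) :
    torusHom (x i.castSucc : TK K (n + 1)) = x i ⊗ₜ[K] 1 := by
  rw [torusHom, liftT_x, Fin.snoc_castSucc]

@[simp]
theorem torusHom_last {n : ℕ} :
    torusHom (x (Fin.last n) : TK K (n + 1)) = inv n ⊗ₜ[K] LaurentPolynomial.T 1 := by
  rw [torusHom, liftT_x, Fin.snoc_last]

theorem torusHom_prod {n : ℕ} :
    torusHom (∏ i : Fin (n + 1), (x i : TK K (n + 1))) = 1 ⊗ₜ[K] LaurentPolynomial.T 1 := by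
  rw [map_prod, Fin.prod_univ_castSucc]
  simp only [torusHom_castSucc, torusHom_last]
  have h : (∏ i : Fin n, (x i ⊗ₜ[K] 1 : TK K n ⊗[K] K[T;T⁻¹])) = (∏ i : Fin n, x i) ⊗ₜ[K] 1 :=
    (map_prod (Algebra.TensorProduct.includeLeft : TK K n →ₐ[K] TK K n ⊗[K] K[T;T⁻¹]) _ _).symm
  rw [h, Algebra.TensorProduct.tmul_mul_tmul, prod_mul_inv, one_mul]

theorem isUnit_prod_castSucc {n : ℕ} : IsUnit (∏ i : Fin n, (x i.castSucc : TK K (n + 1))) := by
  have h := isUnit_prod_x (K := K) (n + 1)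
  rw [Fin.prod_univ_castSucc] at h
  exact isUnit_of_mul_isUnit_left h

/-- The projection `G_m^{n+1} → G_m^n` on coordinate rings. -/
def torusFst {n : ℕ} : TK K n →ₐ[K] TK K (n + 1) := liftT (fun i => x i.castSucc) isUnit_prod_castSucc

@[simp]
theorem torusFst_x {n : ℕ} (i : Fin n) : torusFst (x i : TK K n) = x i.castSucc := liftT_x _ _ i

/-- The product of the coordinates `G_m^{n+1} → G_m` on coordinate rings. -/
def torusSnd {n : ℕ} : K[T;T⁻¹] →ₐ[K] TK K (n + 1) :=
  liftL (∏ i : Fin (n + 1), x i) (isUnit_prod_x (n + 1))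

@[simp]
theorem torusSnd_T {n : ℕ} : torusSnd (LaurentPolynomial.T 1 : K[T;T⁻¹]) =
    ∏ i : Fin (n + 1), (x i : TK K (n + 1)) := liftL_T _ _

/-- The inverse map. -/
def torusInv {n : ℕ} : TK K n ⊗[K] K[T;T⁻¹] →ₐ[K] TK K (n + 1) :=
  Algebra.TensorProduct.lift torusFst torusSnd fun _ _ => Commute.all _ _

@[simp]
theorem torusInv_tmul {n : ℕ} (s : TK K n) (t : K[T;T⁻¹]) :
    torusInv (s ⊗ₜ[K] t) = torusFst s * torusSnd t := Algebra.TensorProduct.lift_tmul _ _ _ _ _

/-- `G_m^{n+1} = G_m^n × G_m`, `(x_0, …, x_n) ↦ ((x_0, …, x_{n-1}), ∏ x_i)`. -/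
def torusEquiv {n : ℕ} : TK K (n + 1) ≃ₐ[K] TK K n ⊗[K] K[T;T⁻¹] :=
  AlgEquiv.ofAlgHom torusHom torusInv
    (by
      refine Algebra.TensorProduct.ext' ?_
      intro s t
      rw [AlgHom.comp_apply, torusInv_tmul, map_mul, AlgHom.id_apply]
      have h1 : (torusHom.comp torusFst : TK K n →ₐ[K] TK K n ⊗[K] K[T;T⁻¹]) =
          Algebra.TensorProduct.includeLeft := hom_ext fun i => by
        rw [AlgHom.comp_apply, torusFst_x, torusHom_castSucc]; rfl
      have h2 : (torusHom.comp torusSnd : K[T;T⁻¹] →ₐ[K] TK K n ⊗[K] K[T;T⁻¹]) =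
          Algebra.TensorProduct.includeRight := homL_ext (by
        rw [AlgHom.comp_apply, torusSnd_T, torusHom_prod]; rfl)
      have e1 : torusHom (torusFst s) = s ⊗ₜ[K] (1 : K[T;T⁻¹]) := AlgHom.congr_fun h1 s
      have e2 : torusHom (torusSnd t) = (1 : TK K n) ⊗ₜ[K] t := AlgHom.congr_fun h2 t
      rw [e1, e2, Algebra.TensorProduct.tmul_mul_tmul, mul_one, one_mul])
    (hom_ext fun i => by
      rw [AlgHom.comp_apply, AlgHom.id_apply]
      refine Fin.lastCases ?_ (fun i => ?_) i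
      · rw [torusHom_last, torusInv_tmul, torusSnd_T, Fin.prod_univ_castSucc]
        have h1 := map_inv (torusFst : TK K n →ₐ[K] TK K (n + 1))
        simp only [torusFst_x] at h1
        rw [← mul_assoc, mul_comm (torusFst (inv n)), h1, one_mul]
      · rw [torusHom_castSucc, torusInv_tmul, map_one, mul_one, torusFst_x])

@[simp]
theorem torusEquiv_castSucc {n : ℕ} (i : Fin n) :
    torusEquiv (x i.castSucc : TK K (n + 1)) = x i ⊗ₜ[K] 1 := torusHom_castSucc i

@[simp]
theorem torusEquiv_last {n : ℕ} :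
    torusEquiv (x (Fin.last n) : TK K (n + 1)) = inv n ⊗ₜ[K] LaurentPolynomial.T 1 := torusHom_last

theorem torusEquiv_prod {n : ℕ} :
    torusEquiv (∏ i : Fin (n + 1), (x i : TK K (n + 1))) = 1 ⊗ₜ[K] LaurentPolynomial.T 1 :=
  torusHom_prod

theorem torusEquiv_symm_tmul {n : ℕ} (s : TK K n) (t : K[T;T⁻¹]) :
    torusEquiv.symm (s ⊗ₜ[K] t) = torusFst s * torusSnd t := torusInv_tmul s t

/-- The sum of the coordinates corresponds to `∑_{i<n} x_i + T / ∏_{i<n} x_i`. -/
theorem torusEquiv_sum {n : ℕ} :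
    torusEquiv (∑ i : Fin (n + 1), (x i : TK K (n + 1))) =
      (∑ i : Fin n, x i) ⊗ₜ[K] 1 + inv n ⊗ₜ[K] LaurentPolynomial.T 1 := by
  rw [map_sum, Fin.sum_univ_castSucc, torusEquiv_last, TensorProduct.sum_tmul]
  congr 1
  exact Finset.sum_congr rfl fun i _ => torusEquiv_castSucc i

end Algebra

/-! ### Schemes -/

section Schemes

open CategoryTheory AlgebraicGeometry Limits

variable (K : Type u) [CommRing K]

/-- `G_m^n` is the hypersurface `∏_{i ≤ n} x_i = a` if `a` is a unit. -/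
def hyperIso (n : ℕ) {a : K} (ha : IsUnit a) :
    Spec (CommRingCat.of (TK K n)) ≅ Spec (CommRingCat.of (HK K (n + 1) a)) :=
  Scheme.Spec.mapIso (hyperEquiv (n := n) ha).toRingEquiv.toCommRingCatIso.op

theorem hyperIso_hom (n : ℕ) {a : K} (ha : IsUnit a) :
    (hyperIso K n ha).hom = Spec.map (CommRingCat.ofHom (hyperEquiv (n := n) ha : _ →+* _)) := rfl

theorem hyperIso_inv (n : ℕ) {a : K} (ha : IsUnit a) :
    (hyperIso K n ha).inv =
      Spec.map (CommRingCat.ofHom ((hyperEquiv (n := n) ha).symm : _ →+* _)) := rfl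

theorem hyperIso_hom_str (n : ℕ) {a : K} (ha : IsUnit a) :
    (hyperIso K n ha).hom ≫ Spec.map (CommRingCat.ofHom (algebraMap K (HK K (n + 1) a))) =
      Spec.map (CommRingCat.ofHom (algebraMap K (TK K n))) := by
  rw [hyperIso_hom, ← Spec.map_comp, ← CommRingCat.ofHom_comp]
  congr 2
  ext t
  exact (hyperEquiv (n := n) ha).commutes t

theorem hyperIso_inv_str (n : ℕ) {a : K} (ha : IsUnit a) :
    (hyperIso K n ha).inv ≫ Spec.map (CommRingCat.ofHom (algebraMap K (TK K n))) =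
      Spec.map (CommRingCat.ofHom (algebraMap K (HK K (n + 1) a))) := by
  rw [Iso.inv_comp_eq, hyperIso_hom_str]

/-- `G_m^{n+1} = G_m^n × G_m` via `(x_0, …, x_n) ↦ ((x_0, …, x_{n-1}), ∏ x_i)`. -/
theorem isPushout_torus (n : ℕ) :
    IsPushout (CommRingCat.ofHom (algebraMap K (TK K n))) (CommRingCat.ofHom (algebraMap K K[T;T⁻¹]))
      (CommRingCat.ofHom (torusFst (K := K) (n := n)).toRingHom)
      (CommRingCat.ofHom (torusSnd (K := K) (n := n)).toRingHom) :=
  (CommRingCat.isPushout_tensorProduct K (TK K n) K[T;T⁻¹]).of_iso (Iso.refl _) (Iso.refl _)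
    (Iso.refl _) (torusEquiv (K := K) (n := n)).symm.toRingEquiv.toCommRingCatIso (by simp) (by simp)
    (CommRingCat.hom_ext (RingHom.ext fun s => by
      change torusEquiv.symm (s ⊗ₜ[K] (1 : K[T;T⁻¹])) = torusFst s
      rw [torusEquiv_symm_tmul, map_one, mul_one]))
    (CommRingCat.hom_ext (RingHom.ext fun s => by
      change torusEquiv.symm ((1 : TK K n) ⊗ₜ[K] s) = torusSnd s
      rw [torusEquiv_symm_tmul, map_one, one_mul]))

/-- `G_m^{n+1} = G_m^n × G_m` via `(x_0, …, x_n) ↦ ((x_0, …, x_{n-1}), ∏ x_i)`. -/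
theorem isPullback_torus (n : ℕ) :
    IsPullback (Spec.map (CommRingCat.ofHom (torusFst (K := K) (n := n)).toRingHom))
      (Spec.map (CommRingCat.ofHom (torusSnd (K := K) (n := n)).toRingHom))
      (Spec.map (CommRingCat.ofHom (algebraMap K (TK K n))))
      (Spec.map (CommRingCat.ofHom (algebraMap K K[T;T⁻¹]))) :=
  isPullback_SpecMap_of_isPushout _ _ _ _ (isPushout_torus K n)

end Schemes

end Groth.Agent.Sga4h.H980.Fib
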