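import Groth.Agent.Sga4h.H980.Fib

/-!
# The tori `Spec (TK B n)`, functorially in the base ring

`B` a commutative ring, `RI B n = TK B n = B[x_0, …, x_{n-1}][1/∏ x_i]`, `σ_n = ∑ x_i`, `Π_n = ∏ x_i` (a unit,
with inverse `inv n`).
* `liftR`, `homR_ext`: the universal property, over varying base rings;
* `mapRI ι n : TK B n →+* TK B' n` and the cartesian square `isPullback_mapRI`;
* `piL B n : B[T;T⁻¹] →+* TK B n`, `T ↦ Π_n`, and the cartesian square `isPullback_piL`;
* `evL ι a n : TK B (n + 1) →+* TK B' n`, `x_n ↦ a / Π_n` and the cartesian square `isPullback_evL`;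
* `succEquiv : TK B (n + 1) ≃+* (TK B n)[T;T⁻¹]`.
-/

set_option autoImplicit false
universe u

open CategoryTheory hiding inv
open AlgebraicGeometry Limits
open scoped TensorProduct LaurentPolynomial

noncomputable section

namespace Groth.Agent.Sga4h.H980.Geo2

open Groth.Agent.Sga4h.H980.Fib

/-! ### Pushouts of rings by their universal property -/

theorem isPushout_of {A B C P : Type u} [CommRing A] [CommRing B] [CommRing C] [CommRing P]
    (f : A →+* B) (g : A →+* C) (inl : B →+* P) (inr : C →+* P) (w : inl.comp f = inr.comp g)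
    (hex : ∀ (R : Type u) [CommRing R] (b : B →+* R) (c : C →+* R), b.comp f = c.comp g →
      ∃ p : P →+* R, p.comp inl = b ∧ p.comp inr = c)
    (huniq : ∀ (R : Type u) [CommRing R] (p q : P →+* R), p.comp inl = q.comp inl →
      p.comp inr = q.comp inr → p = q) :
    IsPushout (CommRingCat.ofHom f) (CommRingCat.ofHom g) (CommRingCat.ofHom inl)
      (CommRingCat.ofHom inr) := by
  have cond (s : PushoutCocone (CommRingCat.ofHom f) (CommRingCat.ofHom g)) :
      s.inl.hom.comp f = s.inr.hom.comp g := congrArg CommRingCat.Hom.hom s.condition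
  refine ⟨⟨by rw [← CommRingCat.ofHom_comp, w, CommRingCat.ofHom_comp]⟩, ⟨?_⟩⟩
  refine PushoutCocone.IsColimit.mk _
    (fun s => CommRingCat.ofHom (hex s.pt s.inl.hom s.inr.hom (cond s)).choose)
    (fun s => ?_) (fun s => ?_) (fun s m h1 h2 => ?_)
  · exact CommRingCat.hom_ext (hex s.pt s.inl.hom s.inr.hom (cond s)).choose_spec.1
  · exact CommRingCat.hom_ext (hex s.pt s.inl.hom s.inr.hom (cond s)).choose_spec.2
  · refine CommRingCat.hom_ext (huniq s.pt _ _ ?_ ?_)
    · exact (congrArg CommRingCat.Hom.hom h1).trans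
        (hex s.pt s.inl.hom s.inr.hom (cond s)).choose_spec.1.symm
    · exact (congrArg CommRingCat.Hom.hom h2).trans
        (hex s.pt s.inl.hom s.inr.hom (cond s)).choose_spec.2.symm

theorem isPullback_of {A B C P : Type u} [CommRing A] [CommRing B] [CommRing C] [CommRing P]
    (f : A →+* B) (g : A →+* C) (inl : B →+* P) (inr : C →+* P) (w : inl.comp f = inr.comp g)
    (hex : ∀ (R : Type u) [CommRing R] (b : B →+* R) (c : C →+* R), b.comp f = c.comp g →
      ∃ p : P →+* R, p.comp inl = b ∧ p.comp inr = c)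
    (huniq : ∀ (R : Type u) [CommRing R] (p q : P →+* R), p.comp inl = q.comp inl →
      p.comp inr = q.comp inr → p = q) :
    IsPullback (Spec.map (CommRingCat.ofHom inl)) (Spec.map (CommRingCat.ofHom inr))
      (Spec.map (CommRingCat.ofHom f)) (Spec.map (CommRingCat.ofHom g)) :=
  isPullback_SpecMap_of_isPushout _ _ _ _ (isPushout_of f g inl inr w hex huniq)

/-! ### The universal property of `TK B n` -/

section Univ

variable {B A : Type*} [CommRing B] [CommRing A]

/-- The homomorphism out of `TK B n` given by a homomorphism `ρ` out of `B` and an `n`-tuple of units. -/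
def liftR {n : ℕ} (ρ : B →+* A) (c : Fin n → A) (hc : IsUnit (∏ i, c i)) : TK B n →+* A :=
  IsLocalization.Away.lift (pr B n) (g := MvPolynomial.eval₂Hom ρ c) (by
    rw [map_prod]
    simp only [MvPolynomial.eval₂Hom_X']
    exact hc)

theorem algebraMap_TK {n : ℕ} (b : B) :
    algebraMap B (TK B n) b = algebraMap (MvPolynomial (Fin n) B) (TK B n) (MvPolynomial.C b) := by
  rw [IsScalarTower.algebraMap_apply B (MvPolynomial (Fin n) B) (TK B n)]
  rfl

@[simp]
theorem liftR_algebraMap {n : ℕ} (ρ : B →+* A) (c : Fin n → A) (hc : IsUnit (∏ i, c i)) (b : B) :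
    liftR ρ c hc (algebraMap B (TK B n) b) = ρ b := by
  rw [algebraMap_TK, liftR, IsLocalization.Away.lift_eq, MvPolynomial.eval₂Hom_C]

@[simp]
theorem liftR_comp_algebraMap {n : ℕ} (ρ : B →+* A) (c : Fin n → A) (hc : IsUnit (∏ i, c i)) :
    (liftR ρ c hc).comp (algebraMap B (TK B n)) = ρ :=
  RingHom.ext fun b => liftR_algebraMap ρ c hc b

@[simp]
theorem liftR_x {n : ℕ} (ρ : B →+* A) (c : Fin n → A) (hc : IsUnit (∏ i, c i)) (i : Fin n) :
    liftR ρ c hc (x i) = c i := by
  rw [x, liftR, IsLocalization.Away.lift_eq, MvPolynomial.eval₂Hom_X']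

theorem homR_ext {n : ℕ} {f g : TK B n →+* A}
    (h0 : f.comp (algebraMap B (TK B n)) = g.comp (algebraMap B (TK B n)))
    (h : ∀ i, f (x i) = g (x i)) : f = g := by
  refine IsLocalization.ringHom_ext (Submonoid.powers (pr B n)) ?_
  refine MvPolynomial.ringHom_ext (fun b => ?_) (fun i => h i)
  have := RingHom.congr_fun h0 b
  rw [RingHom.comp_apply, RingHom.comp_apply, algebraMap_TK] at this
  exact this

theorem isUnit_prod_map {n : ℕ} (f : TK B n →+* A) : IsUnit (∏ i : Fin n, f (x i)) := by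
  rw [← map_prod]
  exact (isUnit_prod_x n).map f

theorem prod_map_mul_inv {n : ℕ} (f : TK B n →+* A) : (∏ i : Fin n, f (x i)) * f (inv n) = 1 := by
  rw [← map_prod, ← map_mul, prod_mul_inv, map_one]

/-- The image of `inv n`. -/
theorem map_inv_eq {n : ℕ} (f : TK B n →+* A) {v : A} (hv : (∏ i : Fin n, f (x i)) * v = 1) :
    f (inv n) = v :=
  (isUnit_prod_map f).mul_left_cancel ((prod_map_mul_inv f).trans hv.symm)

end Univ

/-! ### Laurent polynomials -/

section Laurent

variable {B B' A : Type*} [CommRing B] [CommRing B'] [CommRing A]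

theorem laurent_ext {f g : B[T;T⁻¹] →+* A} (h0 : f.comp LaurentPolynomial.C = g.comp LaurentPolynomial.C)
    (h : f (LaurentPolynomial.T 1) = g (LaurentPolynomial.T 1)) : f = g := by
  refine IsLocalization.ringHom_ext (Submonoid.powers (Polynomial.X : Polynomial B)) ?_
  refine Polynomial.ringHom_ext (fun b => ?_) ?_
  · have := RingHom.congr_fun h0 b
    rw [RingHom.comp_apply, RingHom.comp_apply, LaurentPolynomial.algebraMap_eq_toLaurent,
      Polynomial.toLaurent_C]
    exact this
  · rw [RingHom.comp_apply, RingHom.comp_apply, LaurentPolynomial.algebraMap_eq_toLaurent,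
      Polynomial.toLaurent_X]
    exact h

/-- `T` as a unit. -/
def Tu (B : Type*) [CommRing B] : (B[T;T⁻¹])ˣ := (LaurentPolynomial.isUnit_T (R := B) 1).unit

@[simp]
theorem Tu_val : (Tu B : B[T;T⁻¹]) = LaurentPolynomial.T 1 := rfl

@[simp]
theorem eval₂_T_one (ρ : B →+* A) (a : Aˣ) : LaurentPolynomial.eval₂ ρ a (LaurentPolynomial.T 1) = a := by
  rw [LaurentPolynomial.eval₂_T, zpow_one]

@[simp]
theorem eval₂_comp_C (ρ : B →+* A) (a : Aˣ) :
    (LaurentPolynomial.eval₂ ρ a).comp LaurentPolynomial.C = ρ :=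
  RingHom.ext fun b => LaurentPolynomial.eval₂_C ρ a b

/-- `B[T;T⁻¹] → B'[T;T⁻¹]`. -/
def mapL (ι : B →+* B') : B[T;T⁻¹] →+* B'[T;T⁻¹] :=
  LaurentPolynomial.eval₂ (LaurentPolynomial.C.comp ι) (Tu B')

@[simp]
theorem mapL_C (ι : B →+* B') (b : B) :
    mapL ι (LaurentPolynomial.C b) = LaurentPolynomial.C (ι b) := LaurentPolynomial.eval₂_C _ _ b

@[simp]
theorem mapL_comp_C (ι : B →+* B') :
    (mapL ι).comp LaurentPolynomial.C = LaurentPolynomial.C.comp ι := eval₂_comp_C _ _

@[simp]
theorem mapL_T (ι : B →+* B') : mapL ι (LaurentPolynomial.T 1) = LaurentPolynomial.T 1 :=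
  eval₂_T_one _ _

end Laurent

/-! ### Change of base ring -/

section MapRI

variable {B B' B'' A : Type*} [CommRing B] [CommRing B'] [CommRing B''] [CommRing A]

/-- `TK B n → TK B' n`. -/
def mapRI (ι : B →+* B') (n : ℕ) : TK B n →+* TK B' n :=
  liftR ((algebraMap B' (TK B' n)).comp ι) x (isUnit_prod_x n)

@[simp]
theorem mapRI_algebraMap (ι : B →+* B') (n : ℕ) (b : B) :
    mapRI ι n (algebraMap B (TK B n) b) = algebraMap B' (TK B' n) (ι b) := liftR_algebraMap _ _ _ b

@[simp]
theorem mapRI_comp_algebraMap (ι : B →+* B') (n : ℕ) :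
    (mapRI ι n).comp (algebraMap B (TK B n)) = (algebraMap B' (TK B' n)).comp ι :=
  liftR_comp_algebraMap _ _ _

@[simp]
theorem mapRI_x (ι : B →+* B') (n : ℕ) (i : Fin n) : mapRI ι n (x i) = x i := liftR_x _ _ _ i

@[simp]
theorem mapRI_sum (ι : B →+* B') (n : ℕ) : mapRI ι n (∑ i, x i) = ∑ i, x i := by
  rw [map_sum]; simp only [mapRI_x]

@[simp]
theorem mapRI_prod (ι : B →+* B') (n : ℕ) : mapRI ι n (∏ i, x i) = ∏ i, x i := by
  rw [map_prod]; simp only [mapRI_x]

@[simp]
theorem mapRI_inv (ι : B →+* B') (n : ℕ) : mapRI ι n (inv n) = inv n := by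
  refine map_inv_eq _ ?_
  simp only [mapRI_x]
  exact prod_mul_inv n

theorem mapRI_id (n : ℕ) : mapRI (RingHom.id B) n = RingHom.id _ :=
  homR_ext (by rw [mapRI_comp_algebraMap]; rfl) fun i => mapRI_x _ n i

theorem mapRI_comp (ι : B →+* B') (ι' : B' →+* B'') (n : ℕ) :
    (mapRI ι' n).comp (mapRI ι n) = mapRI (ι'.comp ι) n :=
  homR_ext (by
    rw [RingHom.comp_assoc, mapRI_comp_algebraMap, ← RingHom.comp_assoc, mapRI_comp_algebraMap,
      mapRI_comp_algebraMap, RingHom.comp_assoc]) fun i => by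
    rw [RingHom.comp_apply, mapRI_x, mapRI_x, mapRI_x]

/-- `B[T;T⁻¹] → TK B n`, `T ↦ ∏ x_i`. -/
def piL (B : Type*) [CommRing B] (n : ℕ) : B[T;T⁻¹] →+* TK B n :=
  LaurentPolynomial.eval₂ (algebraMap B (TK B n)) (isUnit_prod_x n).unit

@[simp]
theorem piL_C (n : ℕ) (b : B) : piL B n (LaurentPolynomial.C b) = algebraMap B (TK B n) b :=
  LaurentPolynomial.eval₂_C _ _ b

@[simp]
theorem piL_comp_C (n : ℕ) : (piL B n).comp LaurentPolynomial.C = algebraMap B (TK B n) :=
  eval₂_comp_C _ _

@[simp]
theorem piL_T (n : ℕ) : piL B n (LaurentPolynomial.T 1) = ∏ i, x i := eval₂_T_one _ _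

theorem piL_comp_mapL (ι : B →+* B') (n : ℕ) : (piL B' n).comp (mapL ι) = (mapRI ι n).comp (piL B n) :=
  laurent_ext (by
    rw [RingHom.comp_assoc, mapL_comp_C, ← RingHom.comp_assoc, piL_comp_C, RingHom.comp_assoc,
      piL_comp_C, mapRI_comp_algebraMap]) (by
    rw [RingHom.comp_apply, mapL_T, piL_T, RingHom.comp_apply, piL_T, mapRI_prod])

/-- `TK B (n + 1) → TK B' n`, `x_i ↦ x_i` for `i < n`, `x_n ↦ a / ∏_{i<n} x_i`. -/
def evL (ι : B →+* B') (a : B'ˣ) (n : ℕ) : TK B (n + 1) →+* TK B' n :=
  liftR ((algebraMap B' (TK B' n)).comp ι)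
    (Fin.snoc (α := fun _ => TK B' n) (fun i => x i) (algebraMap B' _ a * inv n)) (by
      rw [Fin.prod_univ_castSucc]
      simp only [Fin.snoc_castSucc, Fin.snoc_last]
      rw [mul_left_comm, prod_mul_inv, mul_one]
      exact a.isUnit.map _)

@[simp]
theorem evL_algebraMap (ι : B →+* B') (a : B'ˣ) (n : ℕ) (b : B) :
    evL ι a n (algebraMap B (TK B (n + 1)) b) = algebraMap B' (TK B' n) (ι b) := liftR_algebraMap _ _ _ b

@[simp]
theorem evL_comp_algebraMap (ι : B →+* B') (a : B'ˣ) (n : ℕ) :
    (evL ι a n).comp (algebraMap B (TK B (n + 1))) = (algebraMap B' (TK B' n)).comp ι :=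
  liftR_comp_algebraMap _ _ _

@[simp]
theorem evL_castSucc (ι : B →+* B') (a : B'ˣ) (n : ℕ) (i : Fin n) :
    evL ι a n (x i.castSucc) = x i := by
  rw [evL, liftR_x, Fin.snoc_castSucc]

@[simp]
theorem evL_last (ι : B →+* B') (a : B'ˣ) (n : ℕ) :
    evL ι a n (x (Fin.last n)) = algebraMap B' _ a * inv n := by
  rw [evL, liftR_x, Fin.snoc_last]

theorem evL_sum (ι : B →+* B') (a : B'ˣ) (n : ℕ) :
    evL ι a n (∑ i, x i) = (∑ i, x i) + algebraMap B' _ a * inv n := by
  rw [map_sum, Fin.sum_univ_castSucc]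
  simp only [evL_castSucc, evL_last]

theorem evL_prod (ι : B →+* B') (a : B'ˣ) (n : ℕ) :
    evL ι a n (∏ i, x i) = algebraMap B' _ a := by
  rw [map_prod, Fin.prod_univ_castSucc]
  simp only [evL_castSucc, evL_last]
  rw [mul_left_comm, prod_mul_inv, mul_one]

theorem evL_comp_piL (ι : B →+* B') (a : B'ˣ) (n : ℕ) :
    (evL ι a n).comp (piL B (n + 1)) =
      (algebraMap B' (TK B' n)).comp (LaurentPolynomial.eval₂ ι a) :=
  laurent_ext (by
    rw [RingHom.comp_assoc, piL_comp_C, evL_comp_algebraMap, RingHom.comp_assoc, eval₂_comp_C]) (by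
    rw [RingHom.comp_apply, piL_T, evL_prod, RingHom.comp_apply, eval₂_T_one])

/-- `evL` factors through the change of base rings. -/
theorem evL_comp_mapRI (ι : B →+* B') (ι' : B' →+* B'') (a : B''ˣ) (n : ℕ) :
    (evL ι' a n).comp (mapRI ι (n + 1)) = evL (ι'.comp ι) a n :=
  homR_ext (by
    rw [RingHom.comp_assoc, mapRI_comp_algebraMap, ← RingHom.comp_assoc, evL_comp_algebraMap,
      evL_comp_algebraMap, RingHom.comp_assoc]) fun i => by
    rw [RingHom.comp_apply, mapRI_x]
    refine Fin.lastCases ?_ (fun i => ?_) i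
    · rw [evL_last, evL_last]
    · rw [evL_castSucc, evL_castSucc]

theorem mapRI_comp_evL (ι : B →+* B') (ι' : B' →+* B'') (a : B'ˣ) (n : ℕ) :
    (mapRI ι' n).comp (evL ι a n) = evL (ι'.comp ι) (Units.map (ι' : B' →* B'') a) n :=
  homR_ext (by
    rw [RingHom.comp_assoc, evL_comp_algebraMap, ← RingHom.comp_assoc, mapRI_comp_algebraMap,
      evL_comp_algebraMap, RingHom.comp_assoc]) fun i => by
    rw [RingHom.comp_apply]
    refine Fin.lastCases ?_ (fun i => ?_) i
    · rw [evL_last, evL_last, map_mul, mapRI_algebraMap, mapRI_inv]; rfl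
    · rw [evL_castSucc, evL_castSucc, mapRI_x]

end MapRI

/-! ### The cartesian squares -/

section Squares

variable {B B' : Type u} [CommRing B] [CommRing B']

/-- `Spec (TK B' n) = Spec (TK B n) ×_B B'`. -/
theorem isPullback_mapRI (ι : B →+* B') (n : ℕ) :
    IsPullback (Spec.map (CommRingCat.ofHom (mapRI ι n)))
      (Spec.map (CommRingCat.ofHom (algebraMap B' (TK B' n))))
      (Spec.map (CommRingCat.ofHom (algebraMap B (TK B n)))) (Spec.map (CommRingCat.ofHom ι)) :=
  isPullback_of _ _ _ _ (mapRI_comp_algebraMap ι n)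
    (fun R _ b c hbc => ⟨liftR c (fun i => b (x i)) (isUnit_prod_map b),
      homR_ext (by
        rw [RingHom.comp_assoc, mapRI_comp_algebraMap, ← RingHom.comp_assoc,
          liftR_comp_algebraMap, hbc]) (fun i => by rw [RingHom.comp_apply, mapRI_x, liftR_x]),
      liftR_comp_algebraMap _ _ _⟩)
    (fun R _ p q h1 h2 => homR_ext h2 fun i => by
      have := RingHom.congr_fun h1 (x i)
      rwa [RingHom.comp_apply, RingHom.comp_apply, mapRI_x] at this)

/-- The product of the coordinates, over `B` and over `B'`. -/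
theorem isPullback_piL (ι : B →+* B') (n : ℕ) :
    IsPullback (Spec.map (CommRingCat.ofHom (mapRI ι n)))
      (Spec.map (CommRingCat.ofHom (piL B' n)))
      (Spec.map (CommRingCat.ofHom (piL B n))) (Spec.map (CommRingCat.ofHom (mapL ι))) :=
  isPullback_of _ _ _ _ (piL_comp_mapL ι n).symm
    (fun R _ b c hbc => by
      have h0 : b.comp (algebraMap B (TK B n)) = (c.comp LaurentPolynomial.C).comp ι := by
        have := congrArg (fun f => f.comp LaurentPolynomial.C) hbc
        simp only [RingHom.comp_assoc, piL_comp_C, mapL_comp_C] at this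
        rw [this, RingHom.comp_assoc]
      have h1 : b (∏ i, x i) = c (LaurentPolynomial.T 1) := by
        have := RingHom.congr_fun hbc (LaurentPolynomial.T 1)
        rwa [RingHom.comp_apply, RingHom.comp_apply, piL_T, mapL_T] at this
      refine ⟨liftR (c.comp LaurentPolynomial.C) (fun i => b (x i)) (isUnit_prod_map b), ?_, ?_⟩
      · exact homR_ext (by
          rw [RingHom.comp_assoc, mapRI_comp_algebraMap, ← RingHom.comp_assoc,
            liftR_comp_algebraMap, h0]) (fun i => by rw [RingHom.comp_apply, mapRI_x, liftR_x])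
      · exact laurent_ext (by
          rw [RingHom.comp_assoc, piL_comp_C, liftR_comp_algebraMap]) (by
          rw [RingHom.comp_apply, piL_T, map_prod]
          simp only [liftR_x]
          rw [← h1, map_prod]))
    (fun R _ p q h1 h2 => homR_ext (by
        have := congrArg (fun f => f.comp LaurentPolynomial.C) h2
        simpa only [RingHom.comp_assoc, piL_comp_C] using this) fun i => by
      have := RingHom.congr_fun h1 (x i)
      rwa [RingHom.comp_apply, RingHom.comp_apply, mapRI_x] at this)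

/-- The fibre of `∏ x_i : G_m^{n+1} → G_m` at `a` is `G_m^n`. -/
theorem isPullback_evL (ι : B →+* B') (a : B'ˣ) (n : ℕ) :
    IsPullback (Spec.map (CommRingCat.ofHom (evL ι a n)))
      (Spec.map (CommRingCat.ofHom (algebraMap B' (TK B' n))))
      (Spec.map (CommRingCat.ofHom (piL B (n + 1))))
      (Spec.map (CommRingCat.ofHom (LaurentPolynomial.eval₂ ι a))) :=
  isPullback_of _ _ _ _ (evL_comp_piL ι a n)
    (fun R _ b c hbc => by
      have h0 : b.comp (algebraMap B (TK B (n + 1))) = c.comp ι := by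
        have := congrArg (fun f => f.comp LaurentPolynomial.C) hbc
        simpa only [RingHom.comp_assoc, piL_comp_C, eval₂_comp_C] using this
      have h1 : b (∏ i, x i) = c a := by
        have := RingHom.congr_fun hbc (LaurentPolynomial.T 1)
        rwa [RingHom.comp_apply, RingHom.comp_apply, piL_T, eval₂_T_one] at this
      have hu : IsUnit (∏ i : Fin n, b (x i.castSucc)) := by
        have := isUnit_prod_map b
        rw [Fin.prod_univ_castSucc] at this
        exact isUnit_of_mul_isUnit_left this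
      refine ⟨liftR c (fun i => b (x i.castSucc)) hu, ?_, ?_⟩
      · refine homR_ext (by
          rw [RingHom.comp_assoc, evL_comp_algebraMap, ← RingHom.comp_assoc,
            liftR_comp_algebraMap, h0]) (fun i => ?_)
        rw [RingHom.comp_apply]
        refine Fin.lastCases ?_ (fun i => ?_) i
        · rw [evL_last, map_mul, liftR_algebraMap, ← h1, map_prod, Fin.prod_univ_castSucc]
          have h2 := prod_map_mul_inv (liftR (n := n) c (fun i => b (x i.castSucc)) hu)
          simp only [liftR_x] at h2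
          rw [mul_right_comm, h2, one_mul]
        · rw [evL_castSucc, liftR_x]
      · exact liftR_comp_algebraMap _ _ _)
    (fun R _ p q h1 h2 => homR_ext h2 fun i => by
      have := RingHom.congr_fun h1 (x i.castSucc)
      rwa [RingHom.comp_apply, RingHom.comp_apply, evL_castSucc] at this)

end Squares

/-! ### `TK B (n + 1) = (TK B n)[T;T⁻¹]` -/

section Succ

variable {B B' : Type*} [CommRing B] [CommRing B']

/-- `TK B (n + 1) → (TK B n)[T;T⁻¹]`. -/
def succHom (B : Type*) [CommRing B] (n : ℕ) : TK B (n + 1) →+* (TK B n)[T;T⁻¹] :=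
  liftR (LaurentPolynomial.C.comp (algebraMap B (TK B n)))
    (Fin.snoc (α := fun _ => (TK B n)[T;T⁻¹]) (fun i => LaurentPolynomial.C (x i))
      (LaurentPolynomial.T 1)) (by
      rw [Fin.prod_univ_castSucc]
      simp only [Fin.snoc_castSucc, Fin.snoc_last]
      rw [← map_prod]
      exact ((isUnit_prod_x n).map LaurentPolynomial.C).mul (LaurentPolynomial.isUnit_T 1))

@[simp]
theorem succHom_algebraMap (n : ℕ) (b : B) :
    succHom B n (algebraMap B (TK B (n + 1)) b) = LaurentPolynomial.C (algebraMap B (TK B n) b) :=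
  liftR_algebraMap _ _ _ b

@[simp]
theorem succHom_castSucc (n : ℕ) (i : Fin n) :
    succHom B n (x i.castSucc) = LaurentPolynomial.C (x i) := by
  rw [succHom, liftR_x, Fin.snoc_castSucc]

@[simp]
theorem succHom_last (n : ℕ) : succHom B n (x (Fin.last n)) = LaurentPolynomial.T 1 := by
  rw [succHom, liftR_x, Fin.snoc_last]

/-- `TK B n → TK B (n + 1)`, the first coordinates. -/
def fstR (B : Type*) [CommRing B] (n : ℕ) : TK B n →+* TK B (n + 1) :=
  liftR (algebraMap B _) (fun i => x i.castSucc) isUnit_prod_castSucc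

@[simp]
theorem fstR_algebraMap (n : ℕ) (b : B) :
    fstR B n (algebraMap B (TK B n) b) = algebraMap B (TK B (n + 1)) b := liftR_algebraMap _ _ _ b

@[simp]
theorem fstR_comp_algebraMap (n : ℕ) :
    (fstR B n).comp (algebraMap B (TK B n)) = algebraMap B (TK B (n + 1)) := liftR_comp_algebraMap _ _ _

@[simp]
theorem fstR_x (n : ℕ) (i : Fin n) : fstR B n (x i) = x i.castSucc := liftR_x _ _ _ i

theorem isUnit_last (n : ℕ) : IsUnit (x (Fin.last n) : TK B (n + 1)) := isUnit_x _

/-- `(TK B n)[T;T⁻¹] → TK B (n + 1)`. -/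
def succInv (B : Type*) [CommRing B] (n : ℕ) : (TK B n)[T;T⁻¹] →+* TK B (n + 1) :=
  LaurentPolynomial.eval₂ (fstR B n) (isUnit_last n).unit

@[simp]
theorem succInv_C (n : ℕ) (b : TK B n) : succInv B n (LaurentPolynomial.C b) = fstR B n b :=
  LaurentPolynomial.eval₂_C _ _ b

@[simp]
theorem succInv_T (n : ℕ) : succInv B n (LaurentPolynomial.T 1) = x (Fin.last n) := eval₂_T_one _ _

/-- `G_m^{n+1} = G_m^n × G_m` by the last coordinate. -/
def succEquiv (B : Type*) [CommRing B] (n : ℕ) : TK B (n + 1) ≃+* (TK B n)[T;T⁻¹] :=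
  RingEquiv.ofRingHom (succHom B n) (succInv B n)
    (laurent_ext (homR_ext (RingHom.ext fun b => by
        simp only [RingHom.comp_apply, succInv_C, fstR_algebraMap, succHom_algebraMap,
          RingHom.id_apply]) fun i => by
        simp only [RingHom.comp_apply, succInv_C, fstR_x, succHom_castSucc, RingHom.id_apply]) (by
      rw [RingHom.comp_apply, succInv_T, succHom_last, RingHom.id_apply]))
    (homR_ext (RingHom.ext fun b => by
        simp only [RingHom.comp_apply, succHom_algebraMap, succInv_C, fstR_algebraMap,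
          RingHom.id_apply]) fun i => by
        rw [RingHom.comp_apply, RingHom.id_apply]
        refine Fin.lastCases ?_ (fun i => ?_) i
        · rw [succHom_last, succInv_T]
        · rw [succHom_castSucc, succInv_C, fstR_x])

theorem succEquiv_algebraMap (n : ℕ) (b : B) :
    succEquiv B n (algebraMap B (TK B (n + 1)) b) = LaurentPolynomial.C (algebraMap B (TK B n) b) :=
  succHom_algebraMap n b

theorem succEquiv_castSucc (n : ℕ) (i : Fin n) :
    succEquiv B n (x i.castSucc) = LaurentPolynomial.C (x i) := succHom_castSucc n i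

theorem succEquiv_last (n : ℕ) : succEquiv B n (x (Fin.last n)) = LaurentPolynomial.T 1 :=
  succHom_last n

theorem succEquiv_fstR (n : ℕ) (b : TK B n) : succEquiv B n (fstR B n b) = LaurentPolynomial.C b := by
  have h := (succEquiv B n).apply_symm_apply (LaurentPolynomial.C b)
  have h' : (succEquiv B n).symm (LaurentPolynomial.C b) = fstR B n b := succInv_C n b
  rwa [h'] at h

theorem succEquiv_sum (n : ℕ) : succEquiv B n (∑ i, x i) =
    LaurentPolynomial.C (∑ i, x i) + LaurentPolynomial.T 1 := by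
  rw [map_sum, Fin.sum_univ_castSucc, succEquiv_last, map_sum]
  simp only [succEquiv_castSucc]

theorem succEquiv_prod (n : ℕ) : succEquiv B n (∏ i, x i) =
    LaurentPolynomial.C (∏ i, x i) * LaurentPolynomial.T 1 := by
  rw [map_prod, Fin.prod_univ_castSucc, succEquiv_last, map_prod]
  simp only [succEquiv_castSucc]

theorem succEquiv_symm_C (n : ℕ) (b : TK B n) :
    (succEquiv B n).symm (LaurentPolynomial.C b) = fstR B n b := succInv_C n b

theorem succEquiv_symm_T (n : ℕ) :
    (succEquiv B n).symm (LaurentPolynomial.T 1) = x (Fin.last n) := succInv_T n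

theorem mapRI_fstR (ι : B →+* B') (n : ℕ) (b : TK B n) :
    mapRI ι (n + 1) (fstR B n b) = fstR B' n (mapRI ι n b) := by
  have : (mapRI ι (n + 1)).comp (fstR B n) = (fstR B' n).comp (mapRI ι n) :=
    homR_ext (by
      rw [RingHom.comp_assoc, fstR_comp_algebraMap, mapRI_comp_algebraMap, RingHom.comp_assoc,
        mapRI_comp_algebraMap, ← RingHom.comp_assoc, fstR_comp_algebraMap]) fun i => by
      rw [RingHom.comp_apply, fstR_x, mapRI_x, RingHom.comp_apply, mapRI_x, fstR_x]
  exact RingHom.congr_fun this b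

theorem evL_fstR (ι : B →+* B') (a : B'ˣ) (n : ℕ) (b : TK B n) :
    evL ι a n (fstR B n b) = mapRI ι n b := by
  have : (evL ι a n).comp (fstR B n) = mapRI ι n :=
    homR_ext (by
      rw [RingHom.comp_assoc, fstR_comp_algebraMap, evL_comp_algebraMap, mapRI_comp_algebraMap])
      fun i => by rw [RingHom.comp_apply, fstR_x, evL_castSucc, mapRI_x]
  exact RingHom.congr_fun this b

/-- `TK B 0 → B`. -/
def zeroHom (B : Type*) [CommRing B] : TK B 0 →+* B :=
  liftR (n := 0) (RingHom.id B) (fun i => i.elim0) (by rw [Fintype.prod_empty]; exact isUnit_one)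

theorem zeroHom_algebraMap (b : B) : zeroHom B (algebraMap B (TK B 0) b) = b := liftR_algebraMap _ _ _ b

/-- `TK B 0 = B`. -/
def zeroEquiv (B : Type*) [CommRing B] : TK B 0 ≃+* B :=
  RingEquiv.ofRingHom (zeroHom B) (algebraMap B (TK B 0))
    (RingHom.ext fun b => zeroHom_algebraMap b)
    (homR_ext (RingHom.ext fun b => by
      rw [RingHom.comp_apply, RingHom.comp_apply, zeroHom_algebraMap]; rfl) fun i => i.elim0)

theorem zeroEquiv_algebraMap (b : B) : zeroEquiv B (algebraMap B (TK B 0) b) = b :=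
  zeroHom_algebraMap b

theorem zeroEquiv_symm (b : B) : (zeroEquiv B).symm b = algebraMap B (TK B 0) b := rfl

end Succ

end Groth.Agent.Sga4h.H980.Geo2
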