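import Groth.Agent.Sga4h.H980.Geo2
import Mathlib.AlgebraicGeometry.PullbackCarrier
import Mathlib.AlgebraicGeometry.Morphisms.ClosedImmersion

/-!
# Affine lines and punctured affine lines over a ring: squares, open and closed pieces
-/

set_option autoImplicit false
universe u

open CategoryTheory hiding inv
open AlgebraicGeometry Limits
open scoped LaurentPolynomial

noncomputable section

namespace Groth.Agent.Sga4h.H980.Geo3

open Groth.Agent.Sga4h.H980.Fib Groth.Agent.Sga4h.H980.Geo2

theorem range_of_isPullback {P X Y Z : Scheme.{u}} {fst : P ⟶ X} {snd : P ⟶ Y} {f : X ⟶ Z} {g : Y ⟶ Z}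
    (h : IsPullback fst snd f g) : Set.range snd = g ⁻¹' Set.range f := by
  ext y
  constructor
  · rintro ⟨p, rfl⟩
    refine ⟨fst p, ?_⟩
    have := congr($(h.w) p)
    exact this
  · rintro ⟨x, hx⟩
    obtain ⟨p, -, hp⟩ := Scheme.exists_preimage_of_isPullback h x y hx
    exact ⟨p, hp⟩

/-! ### Squares -/

section Squares

variable {B B' : Type u} [CommRing B] [CommRing B']

/-- `A^1_{B'} = A^1_B ×_B B'`. -/
theorem isPullback_C (ι : B →+* B') :
    IsPullback (Spec.map (CommRingCat.ofHom (Polynomial.C : B' →+* Polynomial B')))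
      (Spec.map (CommRingCat.ofHom (Polynomial.mapRingHom ι)))
      (Spec.map (CommRingCat.ofHom ι))
      (Spec.map (CommRingCat.ofHom (Polynomial.C : B →+* Polynomial B))) :=
  isPullback_of _ _ _ _ (by ext b; simp)
    (fun R _ b c hbc => ⟨Polynomial.eval₂RingHom b (c Polynomial.X), by
      ext r; simp, by
      refine Polynomial.ringHom_ext (fun r => ?_) ?_
      · have := RingHom.congr_fun hbc r
        simpa using this
      · simp⟩)
    (fun R _ p q h1 h2 => Polynomial.ringHom_ext (fun r => RingHom.congr_fun h1 r) (by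
      have := RingHom.congr_fun h2 Polynomial.X
      simpa using this))

/-- `G_{m, B'} = G_{m, B} ×_B B'`. -/
theorem isPullback_LC (ι : B →+* B') :
    IsPullback (Spec.map (CommRingCat.ofHom (LaurentPolynomial.C : B' →+* B'[T;T⁻¹])))
      (Spec.map (CommRingCat.ofHom (mapL ι)))
      (Spec.map (CommRingCat.ofHom ι))
      (Spec.map (CommRingCat.ofHom (LaurentPolynomial.C : B →+* B[T;T⁻¹]))) :=
  isPullback_of _ _ _ _ (mapL_comp_C ι).symm
    (fun R _ b c hbc => by
      have hu : IsUnit (c (LaurentPolynomial.T 1)) := (LaurentPolynomial.isUnit_T 1).map c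
      refine ⟨LaurentPolynomial.eval₂ b hu.unit, eval₂_comp_C _ _, laurent_ext ?_ ?_⟩
      · rw [RingHom.comp_assoc, mapL_comp_C, ← RingHom.comp_assoc, eval₂_comp_C, hbc]
      · rw [RingHom.comp_apply, mapL_T, eval₂_T_one]; rfl)
    (fun R _ p q h1 h2 => laurent_ext h1 (by
      have := RingHom.congr_fun h2 (LaurentPolynomial.T 1)
      rwa [RingHom.comp_apply, RingHom.comp_apply, mapL_T] at this))

/-- The inclusion `B[X] → B[T;T⁻¹]` is compatible with change of rings. -/
theorem toLaurent_comp_mapRingHom (ι : B →+* B') :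
    (Polynomial.toLaurent : Polynomial B' →+* B'[T;T⁻¹]).comp (Polynomial.mapRingHom ι) =
      (mapL ι).comp (Polynomial.toLaurent : Polynomial B →+* B[T;T⁻¹]) := by
  refine Polynomial.ringHom_ext (fun r => ?_) ?_
  · simp [Polynomial.toLaurent_C]
  · simp [Polynomial.toLaurent_X]

/-- `G_{m, B'} = A^1_{B'} ×_{A^1_B} G_{m, B}`. -/
theorem isPullback_toLaurent (ι : B →+* B') :
    IsPullback (Spec.map (CommRingCat.ofHom (Polynomial.toLaurent : Polynomial B' →+* B'[T;T⁻¹])))
      (Spec.map (CommRingCat.ofHom (mapL ι)))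
      (Spec.map (CommRingCat.ofHom (Polynomial.mapRingHom ι)))
      (Spec.map (CommRingCat.ofHom (Polynomial.toLaurent : Polynomial B →+* B[T;T⁻¹]))) :=
  isPullback_of _ _ _ _ (toLaurent_comp_mapRingHom ι)
    (fun R _ b c hbc => by
      have hX : b Polynomial.X = c (LaurentPolynomial.T 1) := by
        have := RingHom.congr_fun hbc Polynomial.X
        simpa [Polynomial.toLaurent_X] using this
      have hC (r : B) : b (Polynomial.C (ι r)) = c (LaurentPolynomial.C r) := by
        have := RingHom.congr_fun hbc (Polynomial.C r)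
        simpa [Polynomial.toLaurent_C] using this
      have hu : IsUnit (c (LaurentPolynomial.T 1)) := (LaurentPolynomial.isUnit_T 1).map c
      refine ⟨LaurentPolynomial.eval₂ (b.comp Polynomial.C) hu.unit, ?_, laurent_ext ?_ ?_⟩
      · refine Polynomial.ringHom_ext (fun r => ?_) ?_
        · rw [RingHom.comp_apply, Polynomial.toLaurent_C, LaurentPolynomial.eval₂_C]; rfl
        · rw [RingHom.comp_apply, Polynomial.toLaurent_X, eval₂_T_one, hX]; rfl
      · refine RingHom.ext fun r => ?_
        rw [RingHom.comp_apply, RingHom.comp_apply, mapL_C, LaurentPolynomial.eval₂_C,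
          RingHom.comp_apply, RingHom.comp_apply, hC]
      · rw [RingHom.comp_apply, mapL_T, eval₂_T_one]; rfl)
    (fun R _ p q h1 h2 => laurent_ext (RingHom.ext fun r => by
      have := RingHom.congr_fun h1 (Polynomial.C r)
      simpa [Polynomial.toLaurent_C] using this) (by
      have := RingHom.congr_fun h2 (LaurentPolynomial.T 1)
      rwa [RingHom.comp_apply, RingHom.comp_apply, mapL_T] at this))

end Squares

/-! ### Open and closed pieces -/

section Pieces

variable {R R' S : Type u} [CommRing R] [CommRing R'] [CommRing S]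

/-- A principal closed subscheme and its complement. -/
theorem range_eq_compl (h : R) (φ : R →+* R') (hφ : Function.Surjective φ)
    (hk : RingHom.ker φ = Ideal.span {h}) [Algebra R S] [IsLocalization.Away h S] :
    Set.range (Spec.map (CommRingCat.ofHom φ)) =
      (Set.range (Spec.map (CommRingCat.ofHom (algebraMap R S))))ᶜ := by
  have h1 : Set.range (Spec.map (CommRingCat.ofHom φ)) = PrimeSpectrum.zeroLocus (RingHom.ker φ : Set R) :=
    range_comap_of_surjective _ _ hφ
  have h2 : Set.range (Spec.map (CommRingCat.ofHom (algebraMap R S))) =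
      (PrimeSpectrum.basicOpen h : Set (PrimeSpectrum R)) :=
    PrimeSpectrum.localization_away_comap_range S h
  have h3 : (PrimeSpectrum.zeroLocus (RingHom.ker φ : Set R) : Set (PrimeSpectrum R)) =
      (PrimeSpectrum.basicOpen h : Set (PrimeSpectrum R))ᶜ := by
    rw [hk, PrimeSpectrum.zeroLocus_span, PrimeSpectrum.basicOpen_eq_zeroLocus_compl, compl_compl]
  rw [h1, h2]
  exact h3

theorem isClosedImmersion_of_surjective (φ : R →+* R') (hφ : Function.Surjective φ) :
    IsClosedImmersion (Spec.map (CommRingCat.ofHom φ)) :=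
  IsClosedImmersion.spec_of_surjective _ hφ

/-- `G_m ⊆ A^1`. -/
instance isOpenImmersion_toLaurent :
    IsOpenImmersion (Spec.map (CommRingCat.ofHom (Polynomial.toLaurent : Polynomial R →+* R[T;T⁻¹]))) :=
  IsOpenImmersion.of_isLocalization (R := Polynomial R) (S := R[T;T⁻¹]) Polynomial.X

/-- The zero section. -/
instance isClosedImmersion_zero :
    IsClosedImmersion (Spec.map (CommRingCat.ofHom (Polynomial.evalRingHom (0 : R)))) :=
  isClosedImmersion_of_surjective _ fun r => ⟨Polynomial.C r, by simp⟩

theorem ker_evalRingHom_zero : RingHom.ker (Polynomial.evalRingHom (0 : R)) = Ideal.span {Polynomial.X} := by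
  ext f
  rw [RingHom.mem_ker, Ideal.mem_span_singleton, Polynomial.X_dvd_iff, Polynomial.coeff_zero_eq_eval_zero]
  rfl

/-- The zero section is the complement of `G_m`. -/
theorem range_zero : Set.range (Spec.map (CommRingCat.ofHom (Polynomial.evalRingHom (0 : R)))) =
    (Set.range (Spec.map (CommRingCat.ofHom
      (Polynomial.toLaurent : Polynomial R →+* R[T;T⁻¹]))))ᶜ :=
  range_eq_compl (S := R[T;T⁻¹]) (Polynomial.X : Polynomial R) (Polynomial.evalRingHom (0 : R))
    (fun r => ⟨Polynomial.C r, by simp⟩) ker_evalRingHom_zero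

theorem isOpenImmersion_mapRingHom (ι : R →+* S) [IsOpenImmersion (Spec.map (CommRingCat.ofHom ι))] :
    IsOpenImmersion (Spec.map (CommRingCat.ofHom (Polynomial.mapRingHom ι))) :=
  MorphismProperty.of_isPullback (P := @IsOpenImmersion) (isPullback_C ι) inferInstance

theorem isOpenImmersion_mapL (ι : R →+* S) [IsOpenImmersion (Spec.map (CommRingCat.ofHom ι))] :
    IsOpenImmersion (Spec.map (CommRingCat.ofHom (mapL ι))) :=
  MorphismProperty.of_isPullback (P := @IsOpenImmersion) (isPullback_LC ι) inferInstance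

theorem isClosedImmersion_mapRingHom (φ : R →+* R') (hφ : Function.Surjective φ) :
    IsClosedImmersion (Spec.map (CommRingCat.ofHom (Polynomial.mapRingHom φ))) :=
  have := isClosedImmersion_of_surjective φ hφ
  MorphismProperty.of_isPullback (P := @IsClosedImmersion) (isPullback_C φ) inferInstance

theorem isClosedImmersion_mapL (φ : R →+* R') (hφ : Function.Surjective φ) :
    IsClosedImmersion (Spec.map (CommRingCat.ofHom (mapL φ))) :=
  have := isClosedImmersion_of_surjective φ hφ
  MorphismProperty.of_isPullback (P := @IsClosedImmersion) (isPullback_LC φ) inferInstance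

/-- The open piece `D(h) × A^1`. -/
instance isOpenImmersion_mapRingHom_away (h : R) :
    IsOpenImmersion (Spec.map (CommRingCat.ofHom (Polynomial.mapRingHom
      (algebraMap R (Localization.Away h))))) :=
  isOpenImmersion_mapRingHom _

instance isOpenImmersion_mapL_away (h : R) :
    IsOpenImmersion (Spec.map (CommRingCat.ofHom (mapL (algebraMap R (Localization.Away h))))) :=
  isOpenImmersion_mapL _

/-- `V(h) × A^1` is the complement of `D(h) × A^1`. -/
theorem range_mapRingHom (h : R) (φ : R →+* R') (hφ : Function.Surjective φ)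
    (hk : RingHom.ker φ = Ideal.span {h}) :
    Set.range (Spec.map (CommRingCat.ofHom (Polynomial.mapRingHom φ))) =
      (Set.range (Spec.map (CommRingCat.ofHom (Polynomial.mapRingHom
        (algebraMap R (Localization.Away h))))))ᶜ := by
  rw [range_of_isPullback (isPullback_C φ), range_of_isPullback (isPullback_C _),
    range_eq_compl (S := Localization.Away h) h φ hφ hk, Set.preimage_compl]

theorem range_mapL (h : R) (φ : R →+* R') (hφ : Function.Surjective φ)
    (hk : RingHom.ker φ = Ideal.span {h}) :
    Set.range (Spec.map (CommRingCat.ofHom (mapL φ))) =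
      (Set.range (Spec.map (CommRingCat.ofHom (mapL (algebraMap R (Localization.Away h))))))ᶜ := by
  rw [range_of_isPullback (isPullback_LC φ), range_of_isPullback (isPullback_LC _),
    range_eq_compl (S := Localization.Away h) h φ hφ hk, Set.preimage_compl]

end Pieces

/-! ### Scaling and evaluation -/

section Scale

variable {R : Type*} [CommRing R]

/-- `X ↦ u X`. -/
def scaleX (u : Rˣ) : Polynomial R ≃+* Polynomial R :=
  RingEquiv.ofRingHom (Polynomial.eval₂RingHom Polynomial.C (Polynomial.C (u : R) * Polynomial.X))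
    (Polynomial.eval₂RingHom Polynomial.C (Polynomial.C ((u⁻¹ : Rˣ) : R) * Polynomial.X))
    (Polynomial.ringHom_ext (fun r => by simp) (by
      simp only [RingHom.comp_apply, Polynomial.coe_eval₂RingHom, Polynomial.eval₂_mul,
        Polynomial.eval₂_C, Polynomial.eval₂_X, RingHom.id_apply]
      rw [← mul_assoc, ← map_mul, Units.inv_mul, map_one, one_mul]))
    (Polynomial.ringHom_ext (fun r => by simp) (by
      simp only [RingHom.comp_apply, Polynomial.coe_eval₂RingHom, Polynomial.eval₂_mul,
        Polynomial.eval₂_C, Polynomial.eval₂_X, RingHom.id_apply]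
      rw [← mul_assoc, ← map_mul, Units.mul_inv, map_one, one_mul]))

@[simp]
theorem scaleX_C (u : Rˣ) (r : R) : scaleX u (Polynomial.C r) = Polynomial.C r := by
  simp [scaleX]

@[simp]
theorem scaleX_X (u : Rˣ) : scaleX u Polynomial.X = Polynomial.C (u : R) * Polynomial.X := by
  simp [scaleX]

/-- `T ↦ u T`. -/
def scaleT (u : Rˣ) : R[T;T⁻¹] ≃+* R[T;T⁻¹] :=
  RingEquiv.ofRingHom
    (LaurentPolynomial.eval₂ LaurentPolynomial.C (Units.map (LaurentPolynomial.C : R →+* R[T;T⁻¹]) u * Tu R))
    (LaurentPolynomial.eval₂ LaurentPolynomial.C (Units.map (LaurentPolynomial.C : R →+* R[T;T⁻¹]) u⁻¹ * Tu R))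
    (laurent_ext (by
        rw [RingHom.comp_assoc, eval₂_comp_C, eval₂_comp_C]; rfl) (by
      rw [RingHom.comp_apply, eval₂_T_one, Units.val_mul, map_mul, Tu_val, eval₂_T_one, Units.coe_map,
        MonoidHom.coe_coe, LaurentPolynomial.eval₂_C, Units.val_mul, Units.coe_map, Tu_val,
        MonoidHom.coe_coe, ← mul_assoc, ← map_mul, Units.inv_mul, map_one, one_mul, RingHom.id_apply]))
    (laurent_ext (by
        rw [RingHom.comp_assoc, eval₂_comp_C, eval₂_comp_C]; rfl) (by
      rw [RingHom.comp_apply, eval₂_T_one, Units.val_mul, map_mul, Tu_val, eval₂_T_one, Units.coe_map,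
        MonoidHom.coe_coe, LaurentPolynomial.eval₂_C, Units.val_mul, Units.coe_map, Tu_val,
        MonoidHom.coe_coe, ← mul_assoc, ← map_mul, Units.mul_inv, map_one, one_mul, RingHom.id_apply]))

@[simp]
theorem scaleT_C (u : Rˣ) (r : R) : scaleT u (LaurentPolynomial.C r) = LaurentPolynomial.C r :=
  LaurentPolynomial.eval₂_C _ _ r

@[simp]
theorem scaleT_T (u : Rˣ) : scaleT u (LaurentPolynomial.T 1) =
    LaurentPolynomial.C (u : R) * LaurentPolynomial.T 1 := eval₂_T_one _ _

/-- Evaluation of Laurent polynomials. -/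
def evT (b : Rˣ) : R[T;T⁻¹] →+* R := LaurentPolynomial.eval₂ (RingHom.id R) b

@[simp]
theorem evT_C (b : Rˣ) (r : R) : evT b (LaurentPolynomial.C r) = r := LaurentPolynomial.eval₂_C _ _ r

@[simp]
theorem evT_T (b : Rˣ) : evT b (LaurentPolynomial.T 1) = b := eval₂_T_one _ _

theorem evT_surjective (b : Rˣ) : Function.Surjective (evT b) := fun r => ⟨_, evT_C b r⟩

theorem ker_evT (b : Rˣ) :
    RingHom.ker (evT b) = Ideal.span {LaurentPolynomial.T 1 - LaurentPolynomial.C (b : R)} := by
  apply le_antisymm
  · intro f hf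
    have h : ((Ideal.Quotient.mk (Ideal.span {LaurentPolynomial.T 1 - LaurentPolynomial.C (b : R)})).comp
        LaurentPolynomial.C).comp (evT b) =
          Ideal.Quotient.mk (Ideal.span {LaurentPolynomial.T 1 - LaurentPolynomial.C (b : R)}) := by
      refine laurent_ext (RingHom.ext fun r => ?_) ?_
      · simp only [RingHom.comp_apply, evT_C]
      · rw [RingHom.comp_apply, evT_T, RingHom.comp_apply, eq_comm, ← sub_eq_zero, ← map_sub,
          Ideal.Quotient.eq_zero_iff_mem]
        exact Ideal.subset_span rfl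
    have := RingHom.congr_fun h f
    rw [RingHom.comp_apply, (RingHom.mem_ker).1 hf, map_zero] at this
    exact Ideal.Quotient.eq_zero_iff_mem.1 this.symm
  · rw [Ideal.span_singleton_le_iff_mem, RingHom.mem_ker, map_sub, evT_T, evT_C, sub_self]

theorem ker_evT' (b : Rˣ) {v : R} (hv : v * b = -1) :
    RingHom.ker (evT b) = Ideal.span {1 + LaurentPolynomial.C v * LaurentPolynomial.T 1} := by
  rw [ker_evT]
  have hu : IsUnit (LaurentPolynomial.C (-(b : R)) : R[T;T⁻¹]) := b.isUnit.neg.map LaurentPolynomial.C
  have e : LaurentPolynomial.T 1 - LaurentPolynomial.C (b : R) =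
      (1 + LaurentPolynomial.C v * LaurentPolynomial.T 1) * LaurentPolynomial.C (-(b : R)) := by
    rw [add_mul, one_mul, mul_right_comm, ← map_mul, mul_neg, hv, neg_neg, map_one, one_mul, map_neg]
    ring
  rw [e]
  exact Ideal.span_singleton_mul_right_unit hu _

end Scale

end Groth.Agent.Sga4h.H980.Geo3
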